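import Groth.Agent.Lead.ClShriek.Tensor
import Groth.Agent.L29.BC.SupportPush
import Groth.Agent.L29.DCoh.ClosedPC
import Groth.Agent.L16.CohClosedPush

/-!
`RHom(O_Z, -)` preserves bounded below quasi-coherent complexes for pseudo-coherent closed immersions, and is the right
adjoint of direct image on them.
-/

set_option autoImplicit false
set_option linter.style.haveILetI false
set_option backward.defeqAttrib.useBackward true
set_option backward.isDefEq.respectTransparency false
set_option backward.isDefEq.respectTransparency.types false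

universe u

open CategoryTheory CategoryTheory.Limits AlgebraicGeometry

attribute [local instance] HasDerivedCategory.standard

noncomputable section

namespace Groth.Lead.ClShriek

open Groth.L00 Groth.L29 Groth.L29.DC

variable {Z X : Scheme.{u}} (i : Z ⟶ X) [IsClosedImmersion i] [Dual3.HasHomO i]
  [PreservesFiniteLimits (Scheme.Modules.pushforward i)] [PreservesFiniteColimits (Scheme.Modules.pushforward i)]
  (hpc : ∀ m : ℤ, DCoh.IsPseudoCoherentD m (DCoh.inD X (OZ i)))

include hpc in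
theorem isQCohD_Rsh {K : DCoh.D X} (hK : DCoh.IsQCohD K) (c : ℤ) (hc : K.IsGE c) :
    DCoh.IsQCohD ((Rsh i).obj K) := by
  haveI := KFlat.hasLTensorCx (EZ i)
  haveI := RHom.hasRSheafHom (EZ i)
  let e : DCoh.toD X (EZ i) ≅ DCoh.inD X (OZ i) :=
    ((DerivedCategory.singleFunctorIsoCompQ X.Modules 0).app (OZ i)).symm
  obtain ⟨t⟩ := nonempty_RSheafHom_iso i (EZ i) ⟨e⟩
  have h : DCoh.IsQCohD ((Dual3.pushD i).obj ((Rsh i).obj K)) := isQCohD_of_iso (t.app K)
    (BC.SupportAdj.qcoh_RHom_of_pc (fun m => isPseudoCoherentD_of_iso e.symm (hpc m)) hK c hc)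
  intro j
  obtain ⟨d⟩ := ClosedPC.nonempty_HD_iso i ((Rsh i).obj K) j
  haveI : Coh.IsQCoh ((Coh.push i).obj (DCoh.HD ((Rsh i).obj K) j)) :=
    isQCoh_of_iso' d (h j)
  exact Groth.L16.CohClosedPush.isQCoh_of_push i _

include hpc in
/-- on bounded below quasi-coherent complexes the right adjoint of `Ri_*` is `RHom(O_Z, -)` -/
theorem nonempty_adjoint_iso [DCoh.HasRpush i] (hf : DCoh.RpushPreservesQCoh i)
    (a : DCoh.DQCoh X ⥤ DCoh.DQCoh Z) (adj : DCoh.RpushQ i hf ⊣ a) :
    Nonempty (Dual3.bddι X ⋙ a ⋙ ObjectProperty.ι _ ≅ Dual3.bddι X ⋙ ObjectProperty.ι _ ⋙ Rsh i) := by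
  obtain ⟨p⟩ := nonempty_pushD_iso i
  let β : ∀ K : DCoh.DQCoh X, (a.obj K).obj ⟶ (Rsh i).obj K.obj := fun K =>
    (adjSh i).homEquiv _ _ (p.inv.app (a.obj K).obj ≫ (adj.counit.app K).hom)
  have hβ : ∀ {K K' : DCoh.DQCoh X} (k : K ⟶ K'), (a.map k).hom ≫ β K' = β K ≫ (Rsh i).map k.hom := by
    intro K K' k
    change _ ≫ (adjSh i).homEquiv _ _ _ = (adjSh i).homEquiv _ _ _ ≫ _
    rw [← Adjunction.homEquiv_naturality_left, ← Adjunction.homEquiv_naturality_right,
      NatTrans.naturality_assoc, Category.assoc]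
    exact congrArg (fun t => (adjSh i).homEquiv _ _ (p.inv.app (a.obj K).obj ≫ t))
      (congrArg (fun t => t.hom) (adj.counit.naturality k))
  have hiso : ∀ K : (Dual3.IsBddBelowQ X).FullSubcategory, IsIso (β K.obj) := fun K => by
    obtain ⟨c, hc⟩ := K.property
    let R : DCoh.DQCoh Z := ⟨(Rsh i).obj K.obj.obj, isQCohD_Rsh i hpc K.obj.property c hc⟩
    let b : a.obj K.obj ⟶ R := ObjectProperty.homMk (β K.obj)
    suffices IsIso b from inferInstanceAs (IsIso ((DCoh.IsQCohD (X := Z)).ι.map b))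
    refine isIso_of_yoneda_map_bijective _ fun M => ?_
    let e₁ : (M ⟶ a.obj K.obj) ≃ ((Dual3.pushD i).obj M.obj ⟶ K.obj.obj) :=
      (adj.homEquiv M K.obj).symm.trans
        { toFun := fun u => p.inv.app M.obj ≫ u.hom
          invFun := fun v => ObjectProperty.homMk (p.hom.app M.obj ≫ v)
          left_inv := fun u => ObjectProperty.hom_ext _ (by simp)
          right_inv := fun v => by simp }
    let e₂ : ((Dual3.pushD i).obj M.obj ⟶ K.obj.obj) ≃ (M ⟶ R) :=
      ((adjSh i).homEquiv _ _).trans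
        ⟨fun u => ObjectProperty.homMk u, fun v => v.hom, fun _ => rfl, fun _ => rfl⟩
    have : (fun φ : M ⟶ a.obj K.obj => φ ≫ b) = e₁.trans e₂ := by
      funext φ
      apply ObjectProperty.hom_ext
      change φ.hom ≫ (adjSh i).homEquiv _ _ _ =
        (adjSh i).homEquiv _ _ (p.inv.app M.obj ≫ ((adj.homEquiv M K.obj).symm φ).hom)
      rw [← Adjunction.homEquiv_naturality_left, NatTrans.naturality_assoc, Adjunction.homEquiv_counit]
      rfl
    rw [this]
    exact (e₁.trans e₂).bijective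
  exact ⟨NatIso.ofComponents (fun K => @asIso _ _ _ _ (β K.obj) (hiso K)) fun {K K'} k => hβ k.hom⟩

end Groth.Lead.ClShriek
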