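import Groth.Agent.L10.DerivedAdj
import Groth.Agent.L27.RShriek.PlusObj
import Groth.Agent.L29.DCoh.ClosedProj
import Groth.Agent.L29.DCoh.QRlim
import Groth.Prelude.Def_Dual3

/-!
The right adjoint of direct image along a closed immersion on unbounded derived categories.
-/

set_option autoImplicit false
set_option linter.style.haveILetI false
set_option backward.defeqAttrib.useBackward true
set_option backward.isDefEq.respectTransparency false
set_option backward.isDefEq.respectTransparency.types false

universe u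

open CategoryTheory CategoryTheory.Limits AlgebraicGeometry

attribute [local instance] HasDerivedCategory.standard

noncomputable section

namespace Groth.Lead.ClShriek

open Groth.L00 Groth.L29.DC

variable {Z X : Scheme.{u}} (i : Z ⟶ X)

instance enoughK : Groth.L10.KInjDerived.EnoughKInjectives X.Modules := QRlim.enoughKInj X

theorem hasHomO [IsClosedImmersion i] : Dual3.HasHomO i := Groth.L17.ClosedPush.isLeftAdjoint_push i

variable [Dual3.HasHomO i]

/-- `Hom(O_Z, -)` on homotopy categories, localized -/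
abbrev homKh : HomotopyCategory X.Modules (ComplexShape.up ℤ) ⥤ DCoh.D Z :=
  (Dual3.homO i).mapHomotopyCategory (ComplexShape.up ℤ) ⋙ DerivedCategory.Qh

instance hasRightDerived_homKh :
    (homKh i).HasRightDerivedFunctor (HomotopyCategory.quasiIso X.Modules (ComplexShape.up ℤ)) :=
  Groth.L10.KInjDerived.hasRightDerivedFunctor _

/-- `RHom(O_Z, -)` on the unbounded derived category -/
def Rsh : DCoh.D X ⥤ DCoh.D Z :=
  (homKh i).totalRightDerived DerivedCategory.Qh (HomotopyCategory.quasiIso X.Modules (ComplexShape.up ℤ))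

/-- its unit -/
def rshUnit : (Dual3.homO i).mapHomotopyCategory (ComplexShape.up ℤ) ⋙ DerivedCategory.Qh ⟶
    DerivedCategory.Qh ⋙ Rsh i :=
  (homKh i).totalRightDerivedUnit DerivedCategory.Qh (HomotopyCategory.quasiIso X.Modules (ComplexShape.up ℤ))

instance : (Rsh i).IsRightDerivedFunctor (rshUnit i) (HomotopyCategory.quasiIso X.Modules (ComplexShape.up ℤ)) :=
  inferInstanceAs (((homKh i).totalRightDerived DerivedCategory.Qh
    (HomotopyCategory.quasiIso X.Modules (ComplexShape.up ℤ))).IsRightDerivedFunctor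
      ((homKh i).totalRightDerivedUnit DerivedCategory.Qh (HomotopyCategory.quasiIso X.Modules (ComplexShape.up ℤ)))
      (HomotopyCategory.quasiIso X.Modules (ComplexShape.up ℤ)))

variable [PreservesFiniteLimits (Scheme.Modules.pushforward i)]
  [PreservesFiniteColimits (Scheme.Modules.pushforward i)]

/-- `i_* ⊣ RHom(O_Z, -)` -/
def adjSh : Dual3.pushD i ⊣ Rsh i :=
  Groth.L10.DerivedAdj.derived (Dual3.homOAdj i) (Rsh i) (rshUnit i)

theorem isGE_Rsh (K : DCoh.D X) (n : ℤ) [K.IsGE n] : ((Rsh i).obj K).IsGE n :=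
  Groth.L10.DerivedAdj.isGE_rightAdjoint (adjSh i) K n

end Groth.Lead.ClShriek

namespace Groth.Lead.ClShriek

universe w w' v v' u'

/-- an unbounded derived functor restricted to bounded below objects -/
theorem nonempty_plusNatIso {A : Type u} [Category.{v} A] [Abelian A] [EnoughInjectives A] [HasDerivedCategory.{w} A]
    [Groth.L10.KInjDerived.EnoughKInjectives A] {B : Type u'} [Category.{v'} B] [Abelian B] [HasDerivedCategory.{w'} B]
    (F : A ⥤ B) [F.Additive] {RF : DerivedCategory A ⥤ DerivedCategory B}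
    (α : F.mapHomotopyCategory (ComplexShape.up ℤ) ⋙ DerivedCategory.Qh ⟶ DerivedCategory.Qh ⋙ RF)
    [RF.IsRightDerivedFunctor α (HomotopyCategory.quasiIso A (ComplexShape.up ℤ))]
    (hRF : ∀ K : DerivedCategory.Plus A, DerivedCategory.TStructure.t.plus (RF.obj K.obj)) :
    Nonempty (F.rightDerivedFunctorPlus ⋙ DerivedCategory.Plus.ι ≅ DerivedCategory.Plus.ι ⋙ RF) := by
  let RF' : DerivedCategory.Plus A ⥤ DerivedCategory.Plus B :=
    DerivedCategory.TStructure.t.plus.lift (DerivedCategory.Plus.ι ⋙ RF) hRF
  let β : F.mapHomotopyCategoryPlus ⋙ DerivedCategory.Plus.Qh ⟶ DerivedCategory.Plus.Qh ⋙ RF' :=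
    { app := fun K => ObjectProperty.homMk (α.app K.obj)
      naturality := fun K L φ => DerivedCategory.Plus.ι.map_injective (α.naturality φ.hom) }
  let θ := F.rightDerivedFunctorPlus.rightDerivedDesc F.rightDerivedFunctorPlusUnit
    (HomotopyCategory.Plus.quasiIso A) RF' β
  haveI : ∀ K, IsIso (θ.app K) := fun K => by
    obtain ⟨L, hI, ⟨e⟩⟩ := Groth.L27.RShriek.exists_plus_model K
    refine (NatTrans.isIso_app_iff_of_iso θ e).1 ?_
    haveI := Groth.L27.RShriek.isIso_unit_model F L hI
    haveI : IsIso (β.app ((HomotopyCategory.Plus.quotient A).obj L)) := by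
      obtain ⟨I, m, hm⟩ := L
      haveI : ∀ n, Injective (I.X n) := hI
      haveI := CochainComplex.isKInjective_of_injective I m
      haveI := Groth.L10.KInjDerived.isIso_app_quotient α I
      haveI : IsIso (DerivedCategory.Plus.ι.map
          (β.app ((HomotopyCategory.Plus.quotient A).obj (⟨I, m, hm⟩ : CochainComplex.Plus A)))) :=
        inferInstanceAs (IsIso (α.app ((HomotopyCategory.quotient A (ComplexShape.up ℤ)).obj I)))
      exact isIso_of_fully_faithful DerivedCategory.Plus.ι _
    exact IsIso.of_isIso_fac_left (F.rightDerivedFunctorPlus.rightDerived_fac_app F.rightDerivedFunctorPlusUnit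
      (HomotopyCategory.Plus.quasiIso A) RF' β ((HomotopyCategory.Plus.quotient A).obj L))
  haveI : IsIso θ := NatIso.isIso_of_isIso_app θ
  exact ⟨Functor.isoWhiskerRight (asIso θ) DerivedCategory.Plus.ι ≪≫ Iso.refl _⟩

variable {Z X : Scheme.{u}} (i : Z ⟶ X) [Dual3.HasHomO i] [PreservesFiniteLimits (Scheme.Modules.pushforward i)]
  [PreservesFiniteColimits (Scheme.Modules.pushforward i)]

/-- on bounded below objects it is the bounded below derived functor -/
theorem nonempty_plusIso [EnoughInjectives X.Modules] :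
    Nonempty (Dual3.RHomOPlus i ⋙ (DerivedCategory.Plus.ι : DerivedCategory.Plus Z.Modules ⥤ DCoh.D Z) ≅
      (DerivedCategory.Plus.ι : DerivedCategory.Plus X.Modules ⥤ DCoh.D X) ⋙ Rsh i) := by
  refine nonempty_plusNatIso (Dual3.homO i) (rshUnit i) fun K => ?_
  obtain ⟨a, ha⟩ := K.property
  haveI : K.obj.IsGE a := ha
  exact ⟨a, isGE_Rsh i K.obj a⟩

omit [Dual3.HasHomO i] in
/-- derived direct image is termwise direct image -/
theorem nonempty_pushD_iso [IsClosedImmersion i] [DCoh.HasRpush i] : Nonempty (DCoh.Rpush i ≅ Dual3.pushD i) := by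
  let W := HomotopyCategory.quasiIso Z.Modules (ComplexShape.up ℤ)
  let F := Scheme.Modules.pushforward i
  let e : DerivedCategory.Qh ⋙ F.mapDerivedCategory ≅ DCoh.pushKh i := F.mapDerivedCategoryFactorsh
  haveI : F.mapDerivedCategory.IsRightDerivedFunctor e.inv W :=
    Functor.isRightDerivedFunctor_of_inverts W _ e
  exact ⟨Functor.rightDerivedUnique (DCoh.Rpush i) F.mapDerivedCategory
    ((DCoh.pushKh i).totalRightDerivedUnit DerivedCategory.Qh W) e.inv W⟩

end Groth.Lead.ClShriek
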