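import Groth.Agent.Lead.ClShriek.Adj
import Groth.Agent.L29.DCoh.RHomQCoh
import Groth.Agent.L29.DCoh.RHomBound
import Groth.Agent.L29.BC.Adj
import Groth.Agent.L00.DerivedApi
import Groth.Agent.L00.LComp
import Groth.Agent.L29.DCoh.ProjMap
import Groth.Agent.L29.DCoh.RpushQCoh

/-!
`- ⊗ i_* O_Z ≅ i_* Li^*` and the sheaf form of duality for a closed immersion.
-/

set_option autoImplicit false
set_option linter.style.haveILetI false
set_option backward.defeqAttrib.useBackward true
set_option backward.isDefEq.respectTransparency false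
set_option backward.isDefEq.respectTransparency.types false

universe u

open CategoryTheory CategoryTheory.Limits AlgebraicGeometry

attribute [local instance] HasDerivedCategory.standard

noncomputable section

namespace Groth.Lead.ClShriek

open Groth.L00 Groth.L00.Tensor Groth.L29 Groth.L29.DC

variable {Z X : Scheme.{u}} (i : Z ⟶ X) [IsClosedImmersion i]

/-- `i_* O_Z` -/
abbrev OZ : X.Modules := (Scheme.Modules.pushforward i).obj (Coh.structureModule Z)

/-- `i_* i^* ≅ i_* O_Z ⊗ -` -/
def pushPullIso :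
    Scheme.Modules.pullback i ⋙ Scheme.Modules.pushforward i ≅ (DCoh.tensorBi (X := X)).obj (OZ i) :=
  NatIso.ofComponents (fun N =>
    ((Scheme.Modules.pushforward i).mapIso (tensorUnitLeft ((Scheme.Modules.pullback i).obj N)).symm ≪≫
      (ClosedProj.β i (Coh.structureModule Z) N).symm :
        (Scheme.Modules.pushforward i).obj ((Scheme.Modules.pullback i).obj N) ≅
          ((DCoh.tensorBi (X := X)).obj (OZ i)).obj N))
    fun {N N'} g => by
      have h1 := RHom.tensorUnitLeft_natural ((Scheme.Modules.pullback i).map g)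
      have h2 := ClosedProj.β_natural i (𝟙 (Coh.structureModule Z)) g
      rw [CategoryTheory.Functor.map_id] at h2
      have h3 : (Scheme.Modules.pushforward i).map ((Scheme.Modules.pullback i).map g) ≫
          (Scheme.Modules.pushforward i).map (tensorUnitLeft ((Scheme.Modules.pullback i).obj N')).inv =
          (Scheme.Modules.pushforward i).map (tensorUnitLeft ((Scheme.Modules.pullback i).obj N)).inv ≫
            (Scheme.Modules.pushforward i).map
              (tensorMap (𝟙 (Coh.structureModule Z)) ((Scheme.Modules.pullback i).map g)) := by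
        rw [← Functor.map_comp, ← Functor.map_comp]
        refine congrArg (Scheme.Modules.pushforward i).map ?_
        rw [Iso.eq_inv_comp, ← Category.assoc, Iso.comp_inv_eq]
        exact h1.symm
      have h4 : (Scheme.Modules.pushforward i).map
            (tensorMap (𝟙 (Coh.structureModule Z)) ((Scheme.Modules.pullback i).map g)) ≫
          (ClosedProj.β i (Coh.structureModule Z) N').inv =
          (ClosedProj.β i (Coh.structureModule Z) N).inv ≫ tensorMap (𝟙 (OZ i)) g := by
        rw [Iso.comp_inv_eq, Category.assoc, Iso.eq_inv_comp]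
        exact h2.symm
      exact ((Category.assoc _ _ _).symm.trans ((congrArg (· ≫ _) h3).trans ((Category.assoc _ _ _).trans
        ((congrArg (_ ≫ ·) h4).trans ((congrArg (fun t => _ ≫ _ ≫ t) (Assoc.obj_map_eq _ g).symm).trans
          (Category.assoc _ _ _).symm)))))

/-- the complex `i_* O_Z` -/
abbrev EZ : CochainComplex X.Modules ℤ :=
  (HomologicalComplex.single X.Modules (ComplexShape.up ℤ) 0).obj (OZ i)

/-- `i_* i^*` on complexes is tensoring with `i_* O_Z` -/
def cxIso : Proj.pullCx i ⋙ Proj.pushCx i ≅ (DCoh.tensorCx (X := X)).flip.obj (EZ i) :=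
  haveI := Groth.L17.PushQCoh.additive_push i
  haveI : (Scheme.Modules.pullback i).Additive :=
    (Scheme.Modules.pullbackPushforwardAdjunction i).left_adjoint_additive
  DerivedApi.mapCxCompIso (Scheme.Modules.pullback i) (Scheme.Modules.pushforward i) ≪≫
    NatIso.mapHomologicalComplex (pushPullIso i) (ComplexShape.up ℤ) ≪≫
    (NatIso.ofComponents
      (fun L => (SingleTotal.iso (DCoh.tensorBi (X := X)) (OZ i) L).symm)
      (fun {L L'} a => RHom.singleTotal_natural (DCoh.tensorBi (X := X)) (OZ i) a)).symm ≪≫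
    RHom.flipIso (EZ i)

variable [PreservesFiniteLimits (Scheme.Modules.pushforward i)]
  [PreservesFiniteColimits (Scheme.Modules.pushforward i)]

set_option maxHeartbeats 800000 in
/-- `- ⊗^L i_* O_Z ≅ i_* Li^*` -/
theorem nonempty_tensor [DCoh.HasLpull i] (E : CochainComplex X.Modules ℤ)
    (hE : Nonempty (DCoh.toD X E ≅ DCoh.inD X (OZ i))) [DCoh.HasLTensorCx E] :
    Nonempty (DCoh.LTensorCx E ≅ DCoh.Lpull i ⋙ Dual3.pushD i) := by
  obtain ⟨eE⟩ := hE
  haveI := KFlat.hasLTensorCx (EZ i)
  obtain ⟨t⟩ := RHom.nonempty_lt_iso (E := E) (E' := EZ i)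
    (eE ≪≫ (DerivedCategory.singleFunctorIsoCompQ X.Modules 0).app (OZ i))
  haveI : (Scheme.Modules.pullback i).Additive :=
    (Scheme.Modules.pullbackPushforwardAdjunction i).left_adjoint_additive
  let q := DerivedCategory.Q (C := X.Modules)
  let qq := HomotopyCategory.quotient X.Modules (ComplexShape.up ℤ) ⋙ DerivedCategory.Qh
  haveI : ∀ P, IsIso ((Functor.whiskerRight (KFlat.rF X) q).app P) := fun P =>
    (DerivedCategory.isIso_Q_map_iff_quasiIso _ _).2 (KFlat.quasiIso_rF P)
  haveI := NatIso.isIso_of_isIso_app (Functor.whiskerRight (KFlat.rF X) q)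
  let r : KFlat.RF X ⋙ q ≅ q := asIso (Functor.whiskerRight (KFlat.rF X) q) ≪≫ q.leftUnitor
  let a : q ⋙ (DCoh.Lpull i ⋙ Dual3.pushD i) ≅ KFlat.RF X ⋙ (Proj.pullCx i ⋙ Proj.pushCx i) ⋙ q :=
    (Functor.associator _ _ _).symm ≪≫
      Functor.isoWhiskerRight (Functor.isoWhiskerRight (DerivedCategory.quotientCompQhIso X.Modules).symm _ ≪≫
        (DerivedApi.resIso (DerivedApi.acyclicKFlat_pullback i)).symm ≪≫
        Functor.isoWhiskerLeft (KFlat.RF X) (DerivedApi.cxqIso (Scheme.Modules.pullback i))) (Dual3.pushD i) ≪≫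
      Functor.associator _ _ _ ≪≫
      Functor.isoWhiskerLeft (KFlat.RF X) (Functor.associator _ _ _ ≪≫
        Functor.isoWhiskerLeft (Proj.pullCx i) (Scheme.Modules.pushforward i).mapDerivedCategoryFactors ≪≫
        (Functor.associator _ _ _).symm)
  let b : q ⋙ DCoh.LTensorCx (EZ i) ≅ KFlat.RF X ⋙ (DCoh.tensorCx (X := X)).flip.obj (EZ i) ⋙ q :=
    (Functor.isoWhiskerRight r _).symm ≪≫ Functor.associator _ _ _ ≪≫ Assoc.RFIso (EZ i)
  exact ⟨t ≪≫ Localization.liftNatIso q (HomologicalComplex.quasiIso X.Modules (ComplexShape.up ℤ))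
    (q ⋙ DCoh.LTensorCx (EZ i)) (q ⋙ (DCoh.Lpull i ⋙ Dual3.pushD i)) _ _
    (b ≪≫ Functor.isoWhiskerLeft (KFlat.RF X) (Functor.isoWhiskerRight (cxIso i).symm q) ≪≫ a.symm)⟩

/-- `RHom(i_* O_Z, -) ≅ i_* RHom(O_Z, -)` -/
theorem nonempty_RSheafHom_iso [Dual3.HasHomO i] (E : CochainComplex X.Modules ℤ)
    (hE : Nonempty (DCoh.toD X E ≅ DCoh.inD X (OZ i))) [DCoh.HasLTensorCx E] [DCoh.HasRSheafHom E] :
    Nonempty (DCoh.RSheafHom E ≅ Rsh i ⋙ Dual3.pushD i) := by
  haveI := KFlat.hasLpull i
  haveI := RpushQC.hasRpush i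
  obtain ⟨t⟩ := nonempty_tensor i E hE
  obtain ⟨p⟩ := nonempty_pushD_iso i
  exact ⟨(DCoh.RSheafHomAdj E).rightAdjointUniq
    ((((Groth.L29.BC.adj i).ofNatIsoRight p).comp (adjSh i)).ofNatIsoLeft t.symm)⟩

end Groth.Lead.ClShriek
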